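import Mathlib.FieldTheory.IsAlgClosed.Classification
import Mathlib.FieldTheory.IsAlgClosed.AlgebraicClosure

/-!
Two embeddings of a field become conjugate in a large algebraically closed extension.
-/

universe u

set_option backward.isDefEq.respectTransparency false
open Cardinal

namespace Groth.Agent.AlgClosedAut

theorem exists_equiv {k Ω Ω' : Type u} [Field k] [Field Ω] [Field Ω'] [IsAlgClosed Ω] [IsAlgClosed Ω'] [Algebra k Ω]
    [Algebra k Ω'] {ι ι' : Type u} {v : ι → Ω} {w : ι' → Ω'} (e : ι ≃ ι') (hv : IsTranscendenceBasis k v)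
    (hw : IsTranscendenceBasis k w) : ∃ b : Ω ≃+* Ω', ∀ x, b (algebraMap k Ω x) = algebraMap k Ω' x := by
  haveI := IsAlgClosed.isAlgClosure_of_transcendence_basis v hv
  haveI := IsAlgClosed.isAlgClosure_of_transcendence_basis w hw
  let E := (hv.1.aevalEquiv.symm.trans ((MvPolynomial.renameEquiv k e).trans hw.1.aevalEquiv))
  refine ⟨IsAlgClosure.equivOfEquiv Ω Ω' E.toRingEquiv, fun x => ?_⟩
  rw [IsScalarTower.algebraMap_apply k (Algebra.adjoin k (Set.range v)) Ω, IsAlgClosure.equivOfEquiv_algebraMap]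
  show algebraMap _ Ω' (E (algebraMap k _ x)) = _
  rw [E.commutes]
  exact (IsScalarTower.algebraMap_apply k (Algebra.adjoin k (Set.range w)) Ω' x).symm

theorem exists_conjugate {k K : Type u} [Field k] [Field K] (φ₁ φ₂ : k →+* K) :
    ∃ (Ω : Type u) (_ : Field Ω) (_ : IsAlgClosed Ω) (m : K →+* Ω) (b : Ω ≃+* Ω),
      ∀ x, b (m (φ₁ x)) = m (φ₂ x) := by
  let I := ℕ × K
  haveI : Infinite I := Prod.infinite_of_left
  let F := FractionRing (MvPolynomial I K)
  let Ω := AlgebraicClosure F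
  let m : K →+* Ω := algebraMap K Ω
  have h1 : IsTranscendenceBasis K (algebraMap (MvPolynomial I K) Ω ∘ MvPolynomial.X) := by
    haveI : Algebra.IsAlgebraic (MvPolynomial I K) F := IsLocalization.isAlgebraic F (nonZeroDivisors _)
    haveI : Algebra.IsAlgebraic (MvPolynomial I K) Ω := Algebra.IsAlgebraic.trans (MvPolynomial I K) F Ω
    haveI : FaithfulSMul (MvPolynomial I K) Ω := (faithfulSMul_iff_algebraMap_injective _ _).2 (by
      rw [IsScalarTower.algebraMap_eq (MvPolynomial I K) F Ω]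
      exact (algebraMap F Ω).injective.comp (IsFractionRing.injective (MvPolynomial I K) F))
    exact IsTranscendenceBasis.algebraMap_comp (IsTranscendenceBasis.mvPolynomial I K)
  have key : ∀ φ : k →+* K, ∃ (alg : Algebra k Ω) (ι : Type u) (v : ι → Ω), (∀ x, alg.algebraMap x = m (φ x)) ∧
      #ι = #I ∧ @IsTranscendenceBasis ι k Ω _ _ alg v := by
    intro φ
    letI : Algebra k K := φ.toAlgebra
    haveI : FaithfulSMul k K := (faithfulSMul_iff_algebraMap_injective _ _).2 φ.injective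
    obtain ⟨s, hs⟩ := exists_isTranscendenceBasis k K
    refine ⟨inferInstance, I ⊕ s, _, fun x => IsScalarTower.algebraMap_apply k K Ω x, ?_, hs.sumElim_comp h1⟩
    rw [mk_sum, lift_id, lift_id, add_eq_left (aleph0_le_mk I)]
    refine (mk_set_le s).trans ?_
    exact Cardinal.mk_le_of_injective (f := fun x : K => ((0 : ℕ), x)) (fun a b h => (Prod.mk.injEq .. ▸ h).2)
  obtain ⟨alg₁, ι₁, v₁, e₁, c₁, h₁⟩ := key φ₁
  obtain ⟨alg₂, ι₂, v₂, e₂, c₂, h₂⟩ := key φ₂
  obtain ⟨e⟩ := Cardinal.eq.1 (c₁.trans c₂.symm)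
  obtain ⟨b, hb⟩ := @exists_equiv k Ω Ω _ _ _ _ _ alg₁ alg₂ ι₁ ι₂ v₁ v₂ e h₁ h₂
  exact ⟨Ω, inferInstance, inferInstance, m, b, fun x => by rw [← e₁, ← e₂]; exact hb x⟩

end Groth.Agent.AlgClosedAut
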